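import Cfsg.Agent.H305.K547.Uniq
import Cfsg.Agent.H396.K547.Rank
import Cfsg.Agent.H514.K547.Core
import Cfsg.Agent.H618.Resid
import Cfsg.Agent.H766.EssBasic
import Cfsg.Agent.Lib.FrattiniPGroup
import Cfsg.Agent.S4708

/-!
# S4547, [J2] (helper305)

* `comm_free` : if the Sylow 2-subgroup `P` has at most two generators, `x` acts without fixed points on `L / K`;
* `exists_good_under` : an `x`-invariant good character of `K` below an `x`-invariant good character of `L`;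
* `ncard_le` : `#gsx L x ≤ #gsx N x`;
* `two_of_two` : the statement of the hub.
-/

set_option autoImplicit false

open scoped ComplexConjugate
open Cfsg Subgroup

namespace Cfsg.Agent.H305.K547

open Cfsg.Agent.Characters.Core Cfsg.Agent.H601.K4 Cfsg.Agent.H821.K547 Cfsg.Agent.H514.K547 Cfsg.Agent.H618.Sigma

universe u

/-! ### group theory -/

/-- An automorphism of odd order of a two-generator 2-group `P` with `[P, α] ≤ Q ≠ P` is trivial. -/
theorem aut_eq_one {P : Type u} [Group P] [Finite P] (hP : IsPGroup 2 P) (hΦ : (frattini P).index ≤ 4)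
    (Q : Subgroup P) (hQ : Q ≠ ⊤) (α : MulAut P) (hα : ∀ p : P, p⁻¹ * α p ∈ Q) {n : ℕ} (hn : Odd n)
    (hαn : α ^ n = 1) : α = 1 := by
  have : Fact (Nat.Prime 2) := ⟨Nat.prime_two⟩
  set Φ := frattini P with hΦdef
  have hΦn : Φ.Normal := inferInstance
  have hsq : ∀ a : P, ((a : P ⧸ Φ)) ^ 2 = 1 := by
    intro a
    rw [← QuotientGroup.mk_pow, QuotientGroup.eq_one_iff]
    exact Lib.FrattiniPGroup.pow_mem_frattini hP a
  -- `α` on the quotient
  have hαΦ : ∀ a ∈ Φ, α a ∈ Φ := by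
    intro a ha
    have h1 := (Subgroup.characteristic_iff_comap_eq.1 (inferInstance : Φ.Characteristic)) α
    rw [← h1] at ha
    exact ha
  have hαc : ∀ a b : P, (a : P ⧸ Φ) = b → ((α a : P) : P ⧸ Φ) = α b := by
    intro a b h
    rw [QuotientGroup.eq] at h ⊢
    have h1 := hαΦ _ h
    rwa [map_mul, map_inv] at h1
  -- `Q Φ / Φ` has order at most two
  have hR : Q ⊔ Φ ≠ ⊤ := fun h => hQ (frattini_nongenerating h)
  have hidx : Φ.relIndex (Q ⊔ Φ) ≤ 2 := by
    have h1 := Subgroup.relIndex_mul_index (le_sup_right : Φ ≤ Q ⊔ Φ)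
    have h2 : 2 ≤ (Q ⊔ Φ).index := by
      have h3 : (Q ⊔ Φ).index ≠ 0 := Subgroup.index_ne_zero_of_finite
      have h4 : (Q ⊔ Φ).index ≠ 1 := fun h => hR (Subgroup.index_eq_one.1 h)
      omega
    by_contra hcon
    push Not at hcon
    have h3 : 3 * 2 ≤ Φ.relIndex (Q ⊔ Φ) * (Q ⊔ Φ).index := Nat.mul_le_mul hcon h2
    omega
  have hfix : ∀ q ∈ Q, ((α q : P) : P ⧸ Φ) = q := by
    intro q hq
    by_cases hqΦ : q ∈ Φ
    · rw [(QuotientGroup.eq_one_iff q).2 hqΦ, (QuotientGroup.eq_one_iff _).2 (hαΦ q hqΦ)]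
    have hαq : α q ∉ Φ := by
      intro h
      apply hqΦ
      have h1 := (Subgroup.characteristic_iff_comap_eq.1 (inferInstance : Φ.Characteristic)) α
      rw [← h1]
      exact h
    have hαQ : α q ∈ Q := by
      have := Q.mul_mem hq (hα q)
      rwa [mul_inv_cancel_left] at this
    rw [QuotientGroup.eq]
    by_contra hne
    -- three cosets of `Φ` in `Q Φ`
    let R : Subgroup P := Q ⊔ Φ
    have hfin : Finite (R ⧸ Φ.subgroupOf R) := inferInstance
    have hqR : q ∈ R := mem_sup_left hq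
    have hαR : α q ∈ R := mem_sup_left hαQ
    have e1 : ((1 : R) : R ⧸ Φ.subgroupOf R) ≠ ((⟨q, hqR⟩ : R) : R ⧸ Φ.subgroupOf R) := by
      intro h
      have h1 := QuotientGroup.eq.1 h
      rw [mem_subgroupOf] at h1
      apply hqΦ
      simpa using h1
    have e2 : ((1 : R) : R ⧸ Φ.subgroupOf R) ≠ ((⟨α q, hαR⟩ : R) : R ⧸ Φ.subgroupOf R) := by
      intro h
      have h1 := QuotientGroup.eq.1 h
      rw [mem_subgroupOf] at h1
      apply hαq
      simpa using h1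
    have e3 : ((⟨q, hqR⟩ : R) : R ⧸ Φ.subgroupOf R) ≠ ((⟨α q, hαR⟩ : R) : R ⧸ Φ.subgroupOf R) := by
      intro h
      have h1 := QuotientGroup.eq.1 h.symm
      rw [mem_subgroupOf] at h1
      exact hne h1
    have := Fintype.ofFinite (R ⧸ Φ.subgroupOf R)
    have h1 := Fintype.two_lt_card_iff.2 ⟨_, _, _, e1, e2, e3⟩
    rw [← Nat.card_eq_fintype_card] at h1
    have h2 : Nat.card (R ⧸ Φ.subgroupOf R) = Φ.relIndex (Q ⊔ Φ) := rfl
    omega
  -- `α ^ m`
  have hpow : ∀ (p : P) (m : ℕ), (((α ^ m) p : P) : P ⧸ Φ) = ((p * (p⁻¹ * α p) ^ m : P) : P ⧸ Φ) := by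
    intro p m
    induction m with
    | zero => simp
    | succ m ih =>
      have h1 := hαc _ _ ih
      have h2 : (α ^ (m + 1)) p = α ((α ^ m) p) := by
        rw [pow_succ']
        rfl
      rw [h2, h1, map_mul, map_pow, QuotientGroup.mk_mul, QuotientGroup.mk_pow, hfix _ (hα p), ← QuotientGroup.mk_pow,
        ← QuotientGroup.mk_mul]
      congr 1
      rw [pow_succ' (p⁻¹ * α p) m, ← mul_assoc p, mul_inv_cancel_left]
  have hall : ∀ p : P, p⁻¹ * α p ∈ Φ := by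
    intro p
    have h1 := hpow p n
    rw [hαn, MulAut.one_apply] at h1
    rw [QuotientGroup.mk_mul, QuotientGroup.mk_pow, left_eq_mul] at h1
    rw [← QuotientGroup.eq_one_iff]
    obtain ⟨m, rfl⟩ := hn
    rw [pow_succ, pow_mul, hsq, one_pow, one_mul] at h1
    exact h1
  have hfo : IsOfFinOrder α := isOfFinOrder_iff_pow_eq_one.2 ⟨n, hn.pos, hαn⟩
  have h2 := Cfsg.Agent.H766.isPGroup_of_trivial_frattini hP (zpowers α) (by
    intro β hβ p
    obtain ⟨m, rfl⟩ := hfo.mem_powers_iff_mem_zpowers.2 hβ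
    have h1 := hpow p m
    rw [← QuotientGroup.eq, h1, QuotientGroup.mk_mul, QuotientGroup.mk_pow, (QuotientGroup.eq_one_iff _).2 (hall p),
      one_pow, mul_one])
  obtain ⟨k, hk⟩ := h2 ⟨α, mem_zpowers α⟩
  have h3 : α ^ 2 ^ k = 1 := congrArg Subtype.val hk
  have h4 : orderOf α ∣ Nat.gcd (2 ^ k) n := Nat.dvd_gcd (orderOf_dvd_of_pow_eq_one h3) (orderOf_dvd_of_pow_eq_one hαn)
  rw [Nat.Coprime.gcd_eq_one (Nat.Coprime.pow_left k (Nat.coprime_two_left.2 hn)), Nat.dvd_one, orderOf_eq_one_iff] at h4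
  exact h4

variable {G : Type u} [Group G] [Finite G]

section comm

variable (P : Sylow 2 G) (L K : Subgroup G) [hL : L.Normal] [hK : K.Normal]

/-- the elements of `L` which normalise `P` are in `K` -/
theorem normalizer_le (hLt : L ≠ ⊤) {x : G} (hxP : x ∈ (P : Subgroup G)) (hx : L ⊔ zpowers x = ⊤)
    (hΦ : (frattini ↥(P : Subgroup G)).index ≤ 4) (hPK : L ⊓ (P : Subgroup G) ≤ K)
    (hCK : L ⊓ centralizer ((P : Subgroup G) : Set G) ≤ K) {n : G} (hn : n ∈ L)
    (hnP : n ∈ normalizer ((P : Subgroup G) : Set G)) : n ∈ K := by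
  have : Fact (Nat.Prime 2) := ⟨Nat.prime_two⟩
  obtain ⟨a, m, hm, he⟩ := Nat.exists_eq_two_pow_mul_odd (orderOf_pos n).ne'
  have h1 : n ^ m ∈ K := by
    apply hPK
    refine ⟨L.pow_mem hn m, ?_⟩
    have h2 : IsPGroup 2 (zpowers (n ^ m)) := by
      apply IsPGroup.of_card (n := a)
      rw [Nat.card_zpowers, orderOf_pow_of_dvd hm.pos.ne' (by rw [he]; exact dvd_mul_left _ _), he,
        Nat.mul_div_cancel _ hm.pos]
    have h3 : n ^ m ∈ zpowers (n ^ m) ⊓ normalizer (P : Set G) :=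
      ⟨mem_zpowers _, (normalizer ((P : Subgroup G) : Set G)).pow_mem hnP m⟩
    have h4 := h2.inf_normalizer_sylow P
    rw [h4] at h3
    exact h3.2
  have h2 : n ^ 2 ^ a ∈ K := by
    apply hCK
    set y := n ^ 2 ^ a with hy
    have hyL : y ∈ L := L.pow_mem hn _
    have hyP : y ∈ normalizer ((P : Subgroup G) : Set G) := (normalizer ((P : Subgroup G) : Set G)).pow_mem hnP _
    refine mem_inf.2 ⟨hyL, ?_⟩
    have hym : y ^ m = 1 := by
      rw [hy, ← pow_mul, ← he, pow_orderOf_eq_one]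
    -- the automorphism of `P`
    let α : MulAut (P : Subgroup G) := (P : Subgroup G).normalizerMonoidHom ⟨y, hyP⟩
    have hαv : ∀ p : (P : Subgroup G), ((α p : (P : Subgroup G)) : G) = y * p * y⁻¹ := fun p => rfl
    have hα := aut_eq_one P.2 hΦ (L.subgroupOf (P : Subgroup G)) (by
      intro h
      apply hLt
      rw [subgroupOf_eq_top] at h
      rw [← hx, left_eq_sup, zpowers_le]
      exact h hxP) α (by
      intro p
      rw [mem_subgroupOf]
      have h3 : ((p⁻¹ * α p : (P : Subgroup G)) : G) = ((p : G)⁻¹ * y * (p : G)⁻¹⁻¹) * y⁻¹ := by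
        rw [Subgroup.coe_mul, hαv, Subgroup.coe_inv]
        group
      rw [h3]
      exact L.mul_mem (hL.conj_mem y hyL _) (L.inv_mem hyL)) hm (by
      show (P : Subgroup G).normalizerMonoidHom ⟨y, hyP⟩ ^ m = 1
      rw [← map_pow]
      have : (⟨y, hyP⟩ : normalizer ((P : Subgroup G) : Set G)) ^ m = 1 := Subtype.ext hym
      rw [this, map_one])
    rw [mem_centralizer_iff]
    intro p hp
    have h3 := congrArg Subtype.val (DFunLike.congr_fun hα (⟨p, hp⟩ : (P : Subgroup G)))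
    have h4 : y * p * y⁻¹ = p := h3
    rw [mul_inv_eq_iff_eq_mul] at h4
    exact h4.symm
  have h3 : Nat.gcd m (2 ^ a) = 1 := (Nat.Coprime.pow_left a (Nat.coprime_two_left.2 hm)).symm
  have h4 := Nat.gcd_eq_gcd_ab m (2 ^ a)
  rw [h3] at h4
  have h5 : n = (n ^ m) ^ (Nat.gcdA m (2 ^ a)) * (n ^ 2 ^ a) ^ (Nat.gcdB m (2 ^ a)) := by
    rw [← zpow_natCast, ← zpow_natCast, ← zpow_mul, ← zpow_mul, ← zpow_add, ← h4, Nat.cast_one, zpow_one]
  rw [h5]
  exact K.mul_mem (K.zpow_mem h1 _) (K.zpow_mem h2 _)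

/-- **`x` acts without fixed points on `L / K`.** -/
theorem comm_free (hLt : L ≠ ⊤) {x : G} (hxP : x ∈ (P : Subgroup G)) (hx : L ⊔ zpowers x = ⊤)
    (hΦ : (frattini ↥(P : Subgroup G)).index ≤ 4) (hKL : K ≤ L) (hPK : L ⊓ (P : Subgroup G) ≤ K)
    (hCK : L ⊓ centralizer ((P : Subgroup G) : Set G) ≤ K) (g : G) (hg : g ∈ L) (hgx : x * g * x⁻¹ * g⁻¹ ∈ K) :
    g ∈ K := by
  have : Fact (Nat.Prime 2) := ⟨Nat.prime_two⟩
  set H : Subgroup G := K ⊔ zpowers x with hH
  have hPH : (P : Subgroup G) ≤ H := by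
    intro p hp
    have hpL : p ∈ L ⊔ zpowers x := by rw [hx]; exact mem_top p
    obtain ⟨l, hl, y, hy, rfl⟩ := Subgroup.mem_sup_of_normal_left.1 hpL
    have hyP : y ∈ (P : Subgroup G) := (zpowers_le.2 hxP) hy
    have hlP : l ∈ (P : Subgroup G) := by
      have := (P : Subgroup G).mul_mem hp ((P : Subgroup G).inv_mem hyP)
      rwa [mul_inv_cancel_right] at this
    exact H.mul_mem (mem_sup_left (hPK ⟨hl, hlP⟩)) (mem_sup_right hy)
  -- `g` normalises `H`
  have hgH : H ≤ H.comap (MulAut.conj g).toMonoidHom := by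
    rw [hH]
    refine sup_le (fun k hk => mem_sup_left (hK.conj_mem k hk g)) ?_
    rw [zpowers_le]
    show g * x * g⁻¹ ∈ K ⊔ zpowers x
    have h1 : g * x * g⁻¹ = (x * g * x⁻¹ * g⁻¹)⁻¹ * x := by group
    rw [h1]
    exact (K ⊔ zpowers x).mul_mem (mem_sup_left (K.inv_mem hgx)) (mem_sup_right (mem_zpowers x))
  have hgP : ((g • P : Sylow 2 G) : Subgroup G) ≤ H := by
    rw [Sylow.smul_def]
    rintro _ ⟨p, hp, rfl⟩
    exact hgH (hPH hp)
  obtain ⟨h, hh⟩ := MulAction.exists_smul_eq H (P.subtype hPH) ((g • P).subtype hgP)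
  -- `h⁻¹ g` normalises `P`
  have h1 : (h : G) • P = g • P := by
    simp_rw [Sylow.smul_subtype, Subgroup.smul_def] at hh
    exact Sylow.subtype_injective hh
  obtain ⟨k, hk, y, hy, hky⟩ := Subgroup.mem_sup_of_normal_left.1 (hH ▸ h.2 : (h : G) ∈ K ⊔ zpowers x)
  have hyP : y ∈ (P : Subgroup G) := (zpowers_le.2 hxP) hy
  have h2 : (g⁻¹ * k) • P = P := by
    have h3 : (h : G) • P = k • P := by
      rw [← hky, mul_smul, Sylow.smul_eq_iff_mem_normalizer.2 (le_normalizer hyP)]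
    rw [mul_smul, ← h3, h1, inv_smul_smul]
  have h3 := normalizer_le P L K hLt hxP hx hΦ hPK hCK (L.mul_mem (L.inv_mem hg) (hKL hk))
    (Sylow.smul_eq_iff_mem_normalizer.1 h2)
  have h4 := K.mul_mem h3 (K.inv_mem hk)
  rw [mul_inv_cancel_right] at h4
  exact inv_mem_iff.1 h4

end comm

/-! ### the group `N C_L(Q)` -/

section KK

variable (P : Sylow 2 G) (L N : Subgroup G) [hL : L.Normal] [hN : N.Normal]

/-- `N C_L(Q)`, `Q = N ⊓ P` -/
def KG : Subgroup G := N ⊔ (L ⊓ centralizer ((N ⊓ (P : Subgroup G) : Subgroup G) : Set G))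

theorem mem_of_two {x : G} (hx : ∃ n, orderOf x = 2 ^ n) (hxL : x ∈ L) (hodd : ¬ 2 ∣ N.relIndex L) : x ∈ N := by
  by_contra hxN
  obtain ⟨j, hj⟩ := hx
  have h1 : orderOf ((⟨x, hxL⟩ : L) : L ⧸ N.subgroupOf L) ∣ 2 ^ j := by
    rw [← hj, ← Subgroup.orderOf_mk x hxL]
    exact orderOf_map_dvd (QuotientGroup.mk' (N.subgroupOf L)) _
  have h2 : orderOf ((⟨x, hxL⟩ : L) : L ⧸ N.subgroupOf L) ∣ N.relIndex L := orderOf_dvd_natCard _
  obtain ⟨i, -, hi⟩ := (Nat.dvd_prime_pow Nat.prime_two).1 h1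
  rcases Nat.eq_zero_or_pos i with h3 | h3
  · rw [h3, pow_zero, orderOf_eq_one_iff, QuotientGroup.eq_one_iff] at hi
    exact hxN hi
  · exact hodd ((dvd_pow_self 2 h3.ne').trans (hi ▸ h2))

theorem inf_le_N (hodd : ¬ 2 ∣ N.relIndex L) : L ⊓ (P : Subgroup G) ≤ N := by
  have : Fact (Nat.Prime 2) := ⟨Nat.prime_two⟩
  intro x hx
  refine mem_of_two L N ?_ hx.1 hodd
  obtain ⟨j, hj⟩ := (IsPGroup.iff_orderOf.1 P.isPGroup') ⟨x, hx.2⟩
  rw [Subgroup.orderOf_mk] at hj
  exact ⟨j, hj⟩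

theorem KG_normal : (KG P L N).Normal := by
  have : Fact (Nat.Prime 2) := ⟨Nat.prime_two⟩
  set Q : Subgroup G := N ⊓ (P : Subgroup G) with hQ
  -- a Sylow subgroup of `N`
  have hQp : IsPGroup 2 ((P : Subgroup G).subgroupOf N) := P.isPGroup'.comap_subtype
  have hQi : ¬ 2 ∣ ((P : Subgroup G).subgroupOf N).index := fun h =>
    P.not_dvd_index (h.trans (Cfsg.Agent.H618.Resid.relIndex_dvd_index_right (P : Subgroup G) N))
  have hF := Sylow.normalizer_sup_eq_top (hQp.toSylow hQi)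
  rw [IsPGroup.toSylow_coe, subgroupOf_map_subtype, inf_comm, ← hQ] at hF
  have key : ∀ g ∈ normalizer (Q : Set G), ∀ c ∈ KG P L N, g * c * g⁻¹ ∈ KG P L N := by
    intro g hg
    have h1 : KG P L N ≤ (KG P L N).comap (MulAut.conj g).toMonoidHom := by
      refine sup_le (fun n hn => mem_sup_left (hN.conj_mem n hn g)) (fun c hc => ?_)
      refine mem_sup_right (mem_inf.2 ⟨hL.conj_mem c hc.1 g, ?_⟩)
      have hc' := (mem_inf.1 hc).2
      rw [mem_centralizer_iff] at hc' ⊢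
      intro y hy
      have h2 : g⁻¹ * y * g ∈ (Q : Set G) := by
        have h3 := (mem_normalizer_iff.1 (inv_mem hg) y).1 hy
        rwa [inv_inv] at h3
      have h4 := hc' _ h2
      change y * (g * c * g⁻¹) = g * c * g⁻¹ * y
      calc y * (g * c * g⁻¹) = g * ((g⁻¹ * y * g) * c) * g⁻¹ := by group
        _ = g * (c * (g⁻¹ * y * g)) * g⁻¹ := by rw [h4]
        _ = g * c * g⁻¹ * y := by group
    exact fun c hc => h1 hc
  rw [← normalizer_eq_top_iff, eq_top_iff, ← hF]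
  refine sup_le (fun g hg => ?_) (le_trans le_sup_left le_normalizer)
  rw [mem_normalizer_iff]
  intro c
  refine ⟨key g hg c, fun hc => ?_⟩
  have h1 := key _ (inv_mem hg) _ hc
  have h2 : g⁻¹ * (g * c * g⁻¹) * g⁻¹⁻¹ = c := by group
  rwa [h2] at h1

theorem KG_le (hNL : N ≤ L) : KG P L N ≤ L := sup_le hNL inf_le_left

theorem le_KG : N ≤ KG P L N := le_sup_left

end KK

/-! ### an invariant good character below an invariant good character -/

/-- an `x`-invariant good character of `K` below an `x`-invariant good character of `L` -/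
theorem exists_good_under (K L : Subgroup G) [hK : K.Normal] [hL : L.Normal] (hKL : K ≤ L) {x : G}
    (hx : ∃ n, orderOf x = 2 ^ n) {χ : L → ℂ} (hχ : χ ∈ gsx L x) :
    ∃ η ∈ gsx K x, ∀ [Fintype K], classInner (fun n : K => χ ⟨n, hKL n.2⟩) η ≠ 0 := by
  classical
  have : Fact (Nat.Prime 2) := ⟨Nat.prime_two⟩
  obtain ⟨M, hM⟩ := Cfsg.Agent.Blocks.ExistsModular.exists_isPModular Nat.prime_two
  have hMp : M.IsPrime := hM.2.1.isPrime
  obtain ⟨k, hk⟩ := H740.K4.exists_cube G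
  have : Finite (IrrCharacter K) := finite_irr
  have := Fintype.ofFinite (IrrCharacter K)
  have hFK := Fintype.ofFinite K
  have := Fintype.ofFinite L
  have hχg : Good χ := hχ.1
  have hkK : Cube K k := hk.subgroup K
  set Ψ : K → ℂ := fun n => χ ⟨n, hKL n.2⟩ with hΨ
  have hΨc : IsCharacter K Ψ := isCharacter_comp (Subgroup.inclusion hKL) (isIrr_isCharacter hχg.odd.1)
  -- the symmetries
  have hs : ∀ n : K, Ψ (n ^ k) = Ψ n := fun n =>
    hχg.sig k (hk.subgroup L).two (hk.subgroup L).odd ⟨n, hKL n.2⟩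
  let τ : MulAut K := MulAut.conjNormal x
  have ht : ∀ n : K, Ψ (τ n) = Ψ n := fun n => hχ.2 ⟨n, hKL n.2⟩
  obtain ⟨e, he⟩ := hx
  have hτe : ∀ n : K, (τ ^ 2 ^ e) n = 1 * n * 1⁻¹ := by
    intro n
    have h1 : τ ^ 2 ^ e = 1 := by
      show (MulAut.conjNormal x : MulAut K) ^ 2 ^ e = 1
      rw [← map_pow, ← he, pow_orderOf_eq_one, map_one]
    rw [h1]
    simp
  have hmsig : ∀ η, H740.K4.mul Ψ (sig hkK η) = H740.K4.mul Ψ η := by
    intro η
    have h1 := H740.K4.mul_sig hkK hs η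
    rw [H740.K4.mul_spec hΨc, H740.K4.mul_spec hΨc] at h1
    exact_mod_cast h1
  have hmtau : ∀ η, H740.K4.mul Ψ (tauI τ η) = H740.K4.mul Ψ η := by
    intro η
    have h1 : classInner Ψ (tauI τ η : K → ℂ) = classInner Ψ (η : K → ℂ) := by
      rw [classInner_def, classInner_def]
      congr 1
      rw [← Equiv.sum_comp τ.toEquiv fun n : K => Ψ n * conj ((η : K → ℂ) n)]
      refine Finset.sum_congr rfl fun n _ => ?_
      show Ψ n * conj ((η : K → ℂ) (τ n)) = Ψ (τ n) * conj ((η : K → ℂ) (τ n))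
      rw [ht]
    rw [H740.K4.mul_spec hΨc, H740.K4.mul_spec hΨc] at h1
    exact_mod_cast h1
  set f : IrrCharacter K → ZMod 2 := fun η => (H740.K4.mul Ψ η : ZMod 2) * (charDegree (η : K → ℂ) : ZMod 2) with hf
  have h0 : ∑ η : IrrCharacter K with True, f η = 1 := by
    have h1 : (charDegree χ : ℂ) = ∑ η : IrrCharacter K, (H740.K4.mul Ψ η : ℂ) * charDegree (η : K → ℂ) := by
      have h2 : (charDegree χ : ℂ) = Ψ 1 := by
        rw [← Cfsg.Agent.Blocks.Basic.irr_one_eq_charDegree hχg.odd.1]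
        rfl
      rw [h2]
      conv_lhs => rw [H740.K4.eq_sum hΨc]
      rw [Finset.sum_apply]
      refine Finset.sum_congr rfl fun η _ => ?_
      rw [Pi.smul_apply, nsmul_eq_mul, Cfsg.Agent.Blocks.Basic.irr_one_eq_charDegree η.2]
    have h2 : charDegree χ = ∑ η : IrrCharacter K, H740.K4.mul Ψ η * charDegree (η : K → ℂ) := by exact_mod_cast h1
    have h3 : ((charDegree χ : ℕ) : ZMod 2) = 1 := ZMod.natCast_eq_one_iff_odd.2 (odd_iff.2 hχg.odd.2)
    rw [Finset.filter_true, ← h3, h2]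
    push_cast
    rfl
  obtain ⟨m, hm⟩ := hkK.exists_iter
  rw [sum_fixed_pred (sig hkK) m (fun η => Subtype.ext (funext fun n => by rw [sig_iter, hm])) (fun _ => True)
    (fun _ h => h) f (fun η _ => by simp only [hf, hmsig, charDegree_sig])] at h0
  rw [sum_fixed_pred (tauI τ) e (tauI_two hτe) (fun η => True ∧ sig hkK η = η) (fun η h => ⟨trivial, by
      rw [sig_eq_iff]
      intro n
      rw [tauI_apply, tauI_apply, map_pow]
      exact (sig_eq_iff hkK η).1 h.2 _⟩) f (fun η _ => by simp only [hf, hmtau, charDegree_tauI])] at h0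
  obtain ⟨η, hη, hη'⟩ := Finset.exists_ne_zero_of_sum_ne_zero (by rw [h0]; exact one_ne_zero)
  rw [Finset.mem_filter] at hη
  obtain ⟨-, ⟨-, h1⟩, h2⟩ := hη
  rw [hf] at hη'
  simp only at hη'
  have hmul : H740.K4.mul Ψ η ≠ 0 := by
    intro h
    apply hη'
    rw [h, Nat.cast_zero, zero_mul]
  have hdeg : ¬ 2 ∣ charDegree (η : K → ℂ) := by
    intro h
    apply hη'
    rw [(ZMod.natCast_eq_zero_iff _ _).2 h, mul_zero]
  have hin : classInner Ψ (η : K → ℂ) ≠ 0 := by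
    rw [H740.K4.mul_spec hΨc]
    exact_mod_cast hmul
  -- the block
  have hb : η ∈ principalBlock M K := by
    let e' : (K.subgroupOf L) ≃* K := Subgroup.subgroupOfEquivOfLe hKL
    have := Fintype.ofFinite (K.subgroupOf L)
    let η' : IrrCharacter (K.subgroupOf L) := ⟨fun n => (η : K → ℂ) (e' n),
      isIrr_comp e'.toMonoidHom e'.surjective η.2⟩
    have h3 : η' ∈ principalBlock M (K.subgroupOf L) := by
      refine S4708.mem_principalBlock_of_over 2 M hM (K.subgroupOf L) ⟨χ, hχg.odd.1⟩ (hχg.b0 M hM hχg.odd.1) η' ?_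
      intro h4
      apply hin
      rw [← h4, classInner_def, classInner_def]
      congr 1
      · rw [Nat.card_congr e'.toEquiv]
      · exact (Fintype.sum_equiv e'.toEquiv _ _ fun n => rfl).symm
    have h4 := Cfsg.Agent.H133.PB.mem_principalBlock_comp e'.symm.toMonoidHom e'.symm.surjective h3
    have h5 : (⟨fun n => (η' : K.subgroupOf L → ℂ) (e'.symm n), isIrr_comp e'.symm.toMonoidHom e'.symm.surjective η'.2⟩ :
        IrrCharacter K) = η := by
      apply Subtype.ext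
      funext n
      show (η : K → ℂ) (e' (e'.symm n)) = (η : K → ℂ) n
      rw [e'.apply_symm_apply]
    rw [← h5]
    exact h4
  refine ⟨(η : K → ℂ), ⟨⟨⟨η.2, hdeg⟩, H740.K4.sigFix_of hkK ((sig_eq_iff hkK η).1 h1), inB0_of_mem hM η.2 hb⟩,
    (tauI_eq_iff τ η).1 h2⟩, ?_⟩
  intro hF
  have hE : hF = hFK := Subsingleton.elim _ _
  rw [hE]
  exact hin

/-! ### the main inequality -/

theorem ncard_le (P : Sylow 2 G) (L N : Subgroup G) [hL : L.Normal] [hN : N.Normal] (hNL : N ≤ L)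
    (hodd : ¬ 2 ∣ N.relIndex L) (hLt : L ≠ ⊤) (x : G) (hxP : x ∈ (P : Subgroup G)) (hx : L ⊔ zpowers x = ⊤)
    (hΦ : (frattini ↥(P : Subgroup G)).index ≤ 4) : (gsx L x).ncard ≤ (gsx N x).ncard := by
  classical
  have : Fact (Nat.Prime 2) := ⟨Nat.prime_two⟩
  cases nonempty_fintype G
  set K : Subgroup G := KG P L N with hKdef
  have hK : K.Normal := KG_normal P L N
  have hKL : K ≤ L := KG_le P L N hNL
  have hNK : N ≤ K := le_KG P L N
  have := Fintype.ofFinite K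
  have hPL : L ⊓ (P : Subgroup G) ≤ N := inf_le_N P L N hodd
  have hC := comm_free P L K hLt hxP hx hΦ hKL (hPL.trans hNK) (by
    intro y hy
    refine mem_sup_right (mem_inf.2 ⟨hy.1, ?_⟩)
    have h1 := (mem_inf.1 hy).2
    rw [mem_centralizer_iff] at h1 ⊢
    exact fun z hz => h1 z hz.2)
  have hx2 : ∃ n, orderOf x = 2 ^ n := by
    obtain ⟨j, hj⟩ := (IsPGroup.iff_orderOf.1 P.isPGroup') ⟨x, hxP⟩
    rw [Subgroup.orderOf_mk] at hj
    exact ⟨j, hj⟩
  -- Alperin-Dade for `K`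
  let e : (N.subgroupOf K) ≃* N := Subgroup.subgroupOfEquivOfLe hNK
  have hQp : IsPGroup 2 ((P : Subgroup G).subgroupOf K) := P.isPGroup'.comap_subtype
  have hQi : ¬ 2 ∣ ((P : Subgroup G).subgroupOf K).index := fun h =>
    P.not_dvd_index (h.trans (Cfsg.Agent.H618.Resid.relIndex_dvd_index_right (P : Subgroup G) K))
  have hbij := gs_restrict (hQp.toSylow hQi) (N.subgroupOf K) (by
    intro h
    apply hodd
    have h1 := Subgroup.relIndex_mul_relIndex N K L hNK hKL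
    rw [← h1]
    exact h.trans (dvd_mul_right _ _)) (by
    rw [IsPGroup.toSylow_coe, eq_top_iff]
    rintro ⟨z, hz⟩ -
    obtain ⟨n, hn, c, hc, rfl⟩ := Subgroup.mem_sup_of_normal_left.1 (show z ∈ N ⊔ _ from hz)
    have hcK : c ∈ K := mem_sup_right hc
    refine Subgroup.mem_sup_of_normal_left.2 ⟨⟨n, hNK hn⟩, hn, ⟨c, hcK⟩, ?_, rfl⟩
    rw [mem_centralizer_iff]
    intro w hw
    have hwP : (w : G) ∈ (P : Subgroup G) := mem_subgroupOf.1 hw
    exact Subtype.ext (mem_centralizer_iff.1 (mem_inf.1 hc).2 (w : G) (mem_inf.2 ⟨hPL ⟨hKL w.2, hwP⟩, hwP⟩)))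
  have key : ∀ χ ∈ gsx L x, ∃ η : K → ℂ, η ∈ gsx K x ∧ classInner (fun n : K => χ ⟨n, hKL n.2⟩) η ≠ 0 := by
    intro χ hχ
    obtain ⟨η, h1, h2⟩ := exists_good_under K L hKL hx2 hχ
    exact ⟨η, h1, h2⟩
  choose! F hF1 hF2 using key
  refine Set.ncard_le_ncard_of_injOn (fun χ => fun n : N => F χ ⟨n, hNK n.2⟩) ?_ ?_ (gsx_finite N x)
  · intro χ hχ
    have h1 := hF1 χ hχ
    refine ⟨?_, fun n => h1.2 ⟨n, hNK n.2⟩⟩
    have h2 : Good (fun n : N.subgroupOf K => F χ n) := hbij.mapsTo h1.1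
    exact H740.K4.good_comp e.symm h2
  · intro χ₁ hχ₁ χ₂ hχ₂ h12
    have h1 := hF1 χ₁ hχ₁
    have h2 := hF1 χ₂ hχ₂
    have h3 : F χ₁ = F χ₂ := by
      apply hbij.injOn h1.1 h2.1
      funext n
      exact congrFun h12 (e n)
    have h4 := hF2 χ₁ hχ₁
    have h5 := hF2 χ₂ hχ₂
    rw [← h3] at h5
    exact unique_over K L hKL hx hC h1.1.odd.1 h1.2 hχ₁.1.odd.1 hχ₂.1.odd.1 hχ₁.2 hχ₂.2 h4 h5

/-- **[J2].** -/
theorem two_of_two (P : Sylow 2 G) (L N : Subgroup G) [L.Normal] [N.Normal] (hNL : N ≤ L)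
    (hodd : ¬ 2 ∣ N.relIndex L) (hLt : L ≠ ⊤) (x : G) (hxP : x ∈ (P : Subgroup G)) (hx : L ⊔ zpowers x = ⊤)
    (hD : ¬ D3 G) (_hQ : ¬ N ⊓ (P : Subgroup G) ≤ (frattini ↥P).map (P : Subgroup G).subtype)
    (h : (gsx N x).ncard ≤ 2) : (gsx L x).ncard ≤ 2 := by
  refine (ncard_le P L N hNL hodd hLt x hxP hx ?_).trans h
  by_contra hcon
  push Not at hcon
  apply hD
  rw [Cfsg.Agent.H396.K547.d3_iff P]
  have h1 := Cfsg.Agent.H396.K547.card_hom_frattini (P := ↥(P : Subgroup G)) P.2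
  have h2 : Nat.card (↥P →* ℤˣ) = Nat.card (↥(P : Subgroup G) →* ℤˣ) := rfl
  rw [h2, h1]
  exact hcon

end Cfsg.Agent.H305.K547
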