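import Cfsg.Agent.H642.SolvRank
import Cfsg.Agent.S4454

/-!
# Relative Glauberman: uniqueness of the invariant character over an invariant character (helper305)

`K ≤ L` normal in `G`, `G = L <x>`, `x` acts without fixed points on `L / K`:

* `mem_of_comm` : a subgroup containing `K` and `x` contains `l ∈ L` if it contains `l⁻¹ x l x⁻¹`;
* `exists_coset_fun'` : on the coset `K x` all irreducible characters of `G` over the `x`-invariant `θ ∈ Irr K` are
  multiples of one function;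
* `unique_over` : at most one `x`-invariant irreducible character of `L` lies over `θ`.
-/

set_option autoImplicit false

open scoped ComplexConjugate
open Cfsg Subgroup

namespace Cfsg.Agent.H305.K547

open Cfsg.Agent.Characters.Core Cfsg.Agent.OddOrderCharacters.IndRes
  Cfsg.Agent.OddOrderCharacters.NormalInduced Cfsg.Agent.OddOrderCharacters.PF9.CliffGen

universe u

section grp

variable {X : Type u} [Group X] [Finite X]

theorem mem_of_comm_one (L T : Subgroup X) [hL : L.Normal] {x : X} (hx : x ∈ T)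
    (hC : ∀ g ∈ L, x * g * x⁻¹ * g⁻¹ = 1 → g = 1) {l : X} (hl : l ∈ L) (h : l⁻¹ * (x * l * x⁻¹) ∈ T) : l ∈ T := by
  have hinj : ∀ g ∈ L, ∀ k ∈ L, g⁻¹ * (x * g * x⁻¹) = k⁻¹ * (x * k * x⁻¹) → g = k := by
    intro g hg k hk h1
    have h2 := hC (k * g⁻¹) (L.mul_mem hk (L.inv_mem hg)) (by
      have h3 : x * (k * g⁻¹) * x⁻¹ * (k * g⁻¹)⁻¹ = k * (k⁻¹ * (x * k * x⁻¹)) * (g⁻¹ * (x * g * x⁻¹))⁻¹ * g⁻¹ * (g * k⁻¹) := by
        group
      rw [h3, ← h1]
      group)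
    exact (mul_inv_eq_one.1 h2).symm
  let f : (T ⊓ L : Subgroup X) → (T ⊓ L : Subgroup X) := fun t => ⟨(t : X)⁻¹ * (x * t * x⁻¹),
    (T ⊓ L).mul_mem ((T ⊓ L).inv_mem t.2) ⟨T.mul_mem (T.mul_mem hx t.2.1) (T.inv_mem hx), hL.conj_mem _ t.2.2 x⟩⟩
  have hf : Function.Injective f := by
    intro a b hab
    exact Subtype.ext (hinj _ a.2.2 _ b.2.2 (congrArg Subtype.val hab))
  obtain ⟨t, ht⟩ := Finite.surjective_of_injective hf ⟨l⁻¹ * (x * l * x⁻¹), h,
    L.mul_mem (L.inv_mem hl) (hL.conj_mem _ hl x)⟩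
  have h1 : (t : X) = l := hinj _ t.2.2 _ hl (congrArg Subtype.val ht)
  rw [← h1]
  exact t.2.1

theorem mem_of_comm (K L T : Subgroup X) [hK : K.Normal] [hL : L.Normal] (hKT : K ≤ T) {x : X} (hx : x ∈ T)
    (hC : ∀ g ∈ L, x * g * x⁻¹ * g⁻¹ ∈ K → g ∈ K) {l : X} (hl : l ∈ L) (h : l⁻¹ * (x * l * x⁻¹) ∈ T) : l ∈ T := by
  have hLn : (L.map (QuotientGroup.mk' K)).Normal := Subgroup.Normal.map hL _ (QuotientGroup.mk'_surjective K)
  have h1 := mem_of_comm_one (L.map (QuotientGroup.mk' K)) (T.map (QuotientGroup.mk' K)) (x := (x : X ⧸ K))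
    ⟨x, hx, rfl⟩ (by
      rintro _ ⟨g, hg, rfl⟩ h2
      have h3 : ((x * g * x⁻¹ * g⁻¹ : X) : X ⧸ K) = 1 := h2
      exact (QuotientGroup.eq_one_iff g).2 (hC g hg ((QuotientGroup.eq_one_iff _).1 h3))) (l := (l : X ⧸ K))
    ⟨l, hl, rfl⟩ ⟨_, h, rfl⟩
  obtain ⟨t, ht, h2⟩ := h1
  have h3 : t⁻¹ * l ∈ K := QuotientGroup.eq.1 h2
  have h4 := T.mul_mem ht (hKT h3)
  rwa [mul_inv_cancel_left] at h4

end grp

section main

variable {G : Type u} [Group G] [Fintype G]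

/-- the value on the coset `K x` of a character induced from the inertia group -/
theorem coset_value (K L T : Subgroup G) [K.Normal] [L.Normal] [Fintype T] (hKT : K ≤ T) {x : G} (hxT : x ∈ T)
    (hx : L ⊔ zpowers x = ⊤) (hC : ∀ g ∈ L, x * g * x⁻¹ * g⁻¹ ∈ K → g ∈ K) {ψ : T → ℂ} (hψ : IsClassFunction T ψ)
    (k : K) : indFun T ψ (k * x) = ψ ⟨k * x, T.mul_mem (hKT k.2) hxT⟩ := by
  classical
  have hc : (Nat.card T : ℂ) ≠ 0 := Nat.cast_ne_zero.2 Nat.card_pos.ne'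
  rw [indFun_apply]
  have key : ∀ g : G, extendByZero T ψ (g⁻¹ * (k * x) * g) = if g ∈ T then ψ ⟨k * x, T.mul_mem (hKT k.2) hxT⟩ else 0 := by
    intro g
    by_cases hg : g ∈ T
    · rw [if_pos hg, OddOrderCharacters.Clifford.ext_apply_mem T ψ _
        (T.mul_mem (T.mul_mem (T.inv_mem hg) (T.mul_mem (hKT k.2) hxT)) hg)]
      have h1 := hψ ⟨k * x, T.mul_mem (hKT k.2) hxT⟩ ⟨g⁻¹, T.inv_mem hg⟩
      rw [← h1]
      congr 1
      apply Subtype.ext
      simp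
    · rw [if_neg hg]
      refine OddOrderCharacters.Clifford.ext_apply_not_mem T ψ _ fun h => ?_
      apply hg
      have hgL : g ∈ L ⊔ zpowers x := by rw [hx]; exact mem_top g
      obtain ⟨l, hl, y, hy, rfl⟩ := Subgroup.mem_sup_of_normal_left.1 hgL
      have hyT : y ∈ T := by
        obtain ⟨i, rfl⟩ := mem_zpowers_iff.1 hy
        exact T.zpow_mem hxT i
      refine T.mul_mem ?_ hyT
      refine mem_of_comm K L T hKT hxT hC hl ?_
      have h1 := T.mul_mem (T.mul_mem (T.mul_mem hyT h) (T.inv_mem hyT)) (T.inv_mem hxT)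
      have h2 : y * ((l * y)⁻¹ * (k * x) * (l * y)) * y⁻¹ * x⁻¹ = l⁻¹ * k * l⁻¹⁻¹ * (l⁻¹ * (x * l * x⁻¹)) := by group
      rw [h2] at h1
      have h3 := hKT ((inferInstance : K.Normal).conj_mem k k.2 l⁻¹)
      have h4 := T.mul_mem (T.inv_mem h3) h1
      rwa [inv_mul_cancel_left] at h4
  rw [Finset.sum_congr rfl fun g _ => key g, Finset.sum_ite, Finset.sum_const_zero, add_zero, Finset.sum_const, nsmul_eq_mul]
  have h5 : ((Finset.univ.filter (fun g : G => g ∈ T)).card : ℂ) = Nat.card T := by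
    rw [← Nat.card_eq_finsetCard]
    congr 1
    exact Nat.card_congr (Equiv.subtypeEquivRight fun g => by simp)
  rw [h5, inv_mul_cancel_left₀ hc]

/-- On the coset `K x` all irreducible characters over the `x`-invariant `θ` are multiples of one function. -/
theorem exists_coset_fun' (K L : Subgroup G) [hK : K.Normal] [L.Normal] [Fintype K] {x : G} (hx : L ⊔ zpowers x = ⊤)
    (hC : ∀ g ∈ L, x * g * x⁻¹ * g⁻¹ ∈ K → g ∈ K) {θ : K → ℂ} (hθ : IsIrrCharacter K θ)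
    (hθx : ∀ n : K, θ (MulAut.conjNormal x n) = θ n) :
    ∃ F : G → ℂ, ∀ χ : G → ℂ, IsIrrCharacter G χ → classInner (fun n : K => χ n) θ ≠ 0 →
      ∃ c : ℂ, ∀ k : K, χ (k * x) = c * F (k * x) := by
  classical
  set T : Subgroup G := inertia K θ with hT
  have := Fintype.ofFinite T
  have hKT : K ≤ T := le_inertia (isIrr_isClassFunction hθ)
  have hxT : x ∈ T := by
    rw [hT, mem_inertia']
    intro n
    rw [← hθx n]
    congr 1
  have := Fintype.ofFinite (K.subgroupOf T)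
  let e : (K.subgroupOf T) ≃* K := Subgroup.subgroupOfEquivOfLe hKT
  have hθT : IsIrrCharacter (K.subgroupOf T) (fun k => θ (e k)) := isIrr_comp e.toMonoidHom e.surjective hθ
  obtain ⟨F, -, hF⟩ := H642.SolvRank.exists_coset_fun (K.subgroupOf T) hθT (by
    intro g n
    have h1 := mem_inertia'.1 (show (g : G) ∈ inertia K θ from g.2) (e n)
    rw [← h1]
    rfl) ⟨x, hxT⟩
  refine ⟨fun g => if h : g ∈ T then F ⟨g, h⟩ else 0, fun χ hχ h0 => ?_⟩
  obtain ⟨ψ, hψ, h1, h2⟩ := exists_ind hθ (fun g => by rw [hT, mem_inertia]) hKT hχ h0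
  obtain ⟨c, hc⟩ := hF ψ hψ (by
    intro h3
    apply h1
    rw [← h3, classInner_def, classInner_def]
    congr 1
    · rw [Nat.card_congr e.toEquiv]
    · refine (Fintype.sum_equiv e.toEquiv _ _ fun k => ?_).symm
      rfl)
  refine ⟨c, fun k => ?_⟩
  have h3 : ((k : G) * x) ∈ T := T.mul_mem (hKT k.2) hxT
  rw [h2, coset_value K L T hKT hxT hx hC (isIrr_isClassFunction hψ) k]
  show _ = c * (if h : (k : G) * x ∈ T then F ⟨(k : G) * x, h⟩ else 0)
  rw [dif_pos h3]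
  exact hc ⟨⟨k, hKT k.2⟩, k.2⟩

/-- **Relative Glauberman, uniqueness.** -/
theorem unique_over (K L : Subgroup G) [hK : K.Normal] [hL : L.Normal] [Fintype K] (hKL : K ≤ L) {x : G}
    (hx : L ⊔ zpowers x = ⊤) (hC : ∀ g ∈ L, x * g * x⁻¹ * g⁻¹ ∈ K → g ∈ K) {θ : K → ℂ} (hθ : IsIrrCharacter K θ)
    (hθx : ∀ n : K, θ (MulAut.conjNormal x n) = θ n) {χ₁ χ₂ : L → ℂ} (h₁ : IsIrrCharacter L χ₁)
    (h₂ : IsIrrCharacter L χ₂) (hx₁ : ∀ l : L, χ₁ (MulAut.conjNormal x l) = χ₁ l)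
    (hx₂ : ∀ l : L, χ₂ (MulAut.conjNormal x l) = χ₂ l) (ho₁ : classInner (fun n : K => χ₁ ⟨n, hKL n.2⟩) θ ≠ 0)
    (ho₂ : classInner (fun n : K => χ₂ ⟨n, hKL n.2⟩) θ ≠ 0) : χ₁ = χ₂ := by
  classical
  have := Fintype.ofFinite L
  have hcK : (Nat.card K : ℂ) ≠ 0 := Nat.cast_ne_zero.2 Nat.card_pos.ne'
  have hcL : (Nat.card L : ℂ) ≠ 0 := Nat.cast_ne_zero.2 Nat.card_pos.ne'
  -- the quotient is cyclic
  have hcyc : IsCyclic (G ⧸ L) := by
    refine ⟨⟨(x : G ⧸ L), fun q => ?_⟩⟩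
    obtain ⟨g, rfl⟩ := QuotientGroup.mk_surjective q
    have hgL : g ∈ L ⊔ zpowers x := by rw [hx]; exact mem_top g
    obtain ⟨l, hl, y, hy, rfl⟩ := Subgroup.mem_sup_of_normal_left.1 hgL
    obtain ⟨i, rfl⟩ := mem_zpowers_iff.1 hy
    refine ⟨i, ?_⟩
    show ((x : G ⧸ L)) ^ i = ((l * x ^ i : G) : G ⧸ L)
    rw [QuotientGroup.mk_mul, (QuotientGroup.eq_one_iff l).2 hl, one_mul, QuotientGroup.mk_zpow]
  -- invariance under `G`
  have hinv : ∀ χ : L → ℂ, IsIrrCharacter L χ → (∀ l : L, χ (MulAut.conjNormal x l) = χ l) → ∀ (g : G) (n : L),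
      χ ⟨g * n * g⁻¹, hL.conj_mem (n : G) n.2 g⟩ = χ n := by
    intro χ hχ hχx g
    apply mem_inertia'.1
    have hgL : g ∈ L ⊔ zpowers x := by rw [hx]; exact mem_top g
    have h1 : L ⊔ zpowers x ≤ inertia L χ := by
      refine sup_le (le_inertia (isIrr_isClassFunction hχ)) ?_
      rw [zpowers_le, mem_inertia']
      intro n
      rw [← hχx n]
      congr 1
    exact h1 hgL
  obtain ⟨φ₁, hφ₁, he₁⟩ := S0886.result L hcyc χ₁ h₁ (hinv χ₁ h₁ hx₁)
  obtain ⟨φ₂, hφ₂, he₂⟩ := S0886.result L hcyc χ₂ h₂ (hinv χ₂ h₂ hx₂)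
  have hr₁ : (fun n : L => φ₁ n) = χ₁ := funext he₁
  have hr₂ : (fun n : L => φ₂ n) = χ₂ := funext he₂
  obtain ⟨F, hF⟩ := exists_coset_fun' K L hx hC hθ hθx
  obtain ⟨c₁, hc₁⟩ := hF φ₁ hφ₁ (by
    have : (fun n : K => φ₁ n) = fun n : K => χ₁ ⟨n, hKL n.2⟩ := funext fun n => he₁ ⟨n, hKL n.2⟩
    rw [this]
    exact ho₁)
  obtain ⟨c₂, hc₂⟩ := hF φ₂ hφ₂ (by
    have : (fun n : K => φ₂ n) = fun n : K => χ₂ ⟨n, hKL n.2⟩ := funext fun n => he₂ ⟨n, hKL n.2⟩
    rw [this]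
    exact ho₂)
  -- the sum over `K x`
  have hS : ∀ (φ : G → ℂ), IsIrrCharacter G φ → IsIrrCharacter L (fun n : L => φ n) →
      ∑ k : K, φ (k * x) * conj (φ (k * x)) = Nat.card K := by
    intro φ hφ hφL
    have h1 := S4454.sum_coset L K hKL x hC (fun y => φ y * conj (φ y)) (fun g y => by
      simp only [isIrr_isClassFunction hφ y g])
    have h2 := CharactersDeep.CosetAverage.cosetAverage_self L φ hφ hφL x
    have h3 : ∑ g : L, φ (g * x) * conj (φ (g * x)) = Nat.card L := by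
      rw [inv_mul_eq_one₀ hcL] at h2
      exact h2.symm
    rw [h3, mul_comm] at h1
    exact (mul_left_cancel₀ hcL h1).symm
  have hs₁ := hS φ₁ hφ₁ (by rw [hr₁]; exact h₁)
  have hs₂ := hS φ₂ hφ₂ (by rw [hr₂]; exact h₂)
  have e₁ : ∑ k : K, φ₁ (k * x) * conj (φ₁ (k * x)) = c₁ * conj c₁ * ∑ k : K, F (k * x) * conj (F (k * x)) := by
    rw [Finset.mul_sum]
    refine Finset.sum_congr rfl fun k _ => ?_
    rw [hc₁, map_mul]
    ring
  have e₂ : ∑ k : K, φ₂ (k * x) * conj (φ₂ (k * x)) = c₂ * conj c₂ * ∑ k : K, F (k * x) * conj (F (k * x)) := by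
    rw [Finset.mul_sum]
    refine Finset.sum_congr rfl fun k _ => ?_
    rw [hc₂, map_mul]
    ring
  have e₃ : ∑ k : K, φ₁ (k * x) * conj (φ₂ (k * x)) = c₁ * conj c₂ * ∑ k : K, F (k * x) * conj (F (k * x)) := by
    rw [Finset.mul_sum]
    refine Finset.sum_congr rfl fun k _ => ?_
    rw [hc₁, hc₂, map_mul]
    ring
  have hne : ∑ k : K, φ₁ (k * x) * conj (φ₂ (k * x)) ≠ 0 := by
    rw [e₃]
    rw [← hs₁, e₁] at hcK
    have h1 := left_ne_zero_of_mul hcK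
    have h2 := right_ne_zero_of_mul hcK
    have hcK' : (Nat.card K : ℂ) ≠ 0 := Nat.cast_ne_zero.2 Nat.card_pos.ne'
    rw [← hs₂, e₂] at hcK'
    have h3 := left_ne_zero_of_mul hcK'
    exact mul_ne_zero (mul_ne_zero (left_ne_zero_of_mul h1) (right_ne_zero_of_mul h3)) h2
  by_contra hne'
  have h4 := S4454.sum_coset L K hKL x hC (fun y => φ₁ y * conj (φ₂ y)) (fun g y => by
    simp only [isIrr_isClassFunction hφ₁ y g, isIrr_isClassFunction hφ₂ y g])
  rcases CharactersDeep.CosetAverage.cosetAverage_dichotomy L φ₂ hφ₂ (by rw [hr₂]; exact h₂) φ₁ hφ₁ _ rfl with h5 | h5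
  · have h6 := congrFun h5.2 x
    have h7 : ∑ n : L, φ₁ ((n : G) * x) * conj (φ₂ ((n : G) * x)) = 0 := by
      have h8 : (Nat.card L : ℂ)⁻¹ * ∑ n : L, φ₁ ((n : G) * x) * conj (φ₂ ((n : G) * x)) = 0 := h6
      exact (mul_eq_zero.1 h8).resolve_left (inv_ne_zero hcL)
    rw [h7, mul_zero] at h4
    exact hne ((mul_eq_zero.1 h4.symm).resolve_left hcL)
  · apply h5.1
    rw [hr₁, hr₂]
    exact classInner_irr_ne h₁ h₂ hne'

end main

end Cfsg.Agent.H305.K547
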